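import Groth.Agent.LocSym.K717.Value
import Groth.Agent.CurvesA.PtAffine

/-!
# Values of sections over an affine open of a curve at the rational points
-/

set_option autoImplicit false
set_option linter.unusedSectionVars false
set_option linter.style.haveILetI false
set_option backward.isDefEq.respectTransparency.types false
universe u v

open CategoryTheory CategoryTheory.Limits AlgebraicGeometry WithZero Opposite

noncomputable section

namespace K978.Eval

open K717.Crv K717.Basic LocSym Groth.Agent.Picfga.RegLocus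
  Groth.Agent.Picfga.CurvePts Groth.Agent.CurvesA.PtAffine

section

variable {k : Type u} [Field k] {X : Scheme.{u}} {c : X ⟶ Spec (CommRingCat.of k)}

theorem range_subset {V : X.Opens} (y : Pt c) (hy : y.pt ∈ V) : Set.range y.1 ⊆ Set.range V.ι := by
  rintro _ ⟨p, rfl⟩
  rw [Scheme.Opens.range_ι]
  have : p = IsLocalRing.closedPoint k := Subsingleton.elim _ _
  rw [this]
  exact hy

/-- A rational point as a morphism into an open containing it. -/
def toV (V : X.Opens) (y : Pt c) (hy : y.pt ∈ V) : Spec (CommRingCat.of k) ⟶ (V : Scheme.{u}) :=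
  IsOpenImmersion.lift V.ι y.1 (range_subset y hy)

theorem toV_ι (V : X.Opens) (y : Pt c) (hy : y.pt ∈ V) : toV V y hy ≫ V.ι = y.1 :=
  IsOpenImmersion.lift_fac _ _ _

/-- The value of a section at a rational point. -/
def evalAt {V : X.Opens} (hV : IsAffineOpen V) (y : Pt c) (hy : y.pt ∈ V) : Γ(X, V) →+* k :=
  (Spec.preimage (toV V y hy ≫ hV.isoSpec.hom)).hom

theorem map_evalAt {V : X.Opens} (hV : IsAffineOpen V) (y : Pt c) (hy : y.pt ∈ V) :
    Spec.map (CommRingCat.ofHom (evalAt hV y hy)) = toV V y hy ≫ hV.isoSpec.hom :=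
  Spec.map_preimage _

theorem map_evalAt_fromSpec {V : X.Opens} (hV : IsAffineOpen V) (y : Pt c) (hy : y.pt ∈ V) :
    Spec.map (CommRingCat.ofHom (evalAt hV y hy)) ≫ hV.fromSpec = y.1 := by
  rw [map_evalAt, IsAffineOpen.fromSpec, Category.assoc, Iso.hom_inv_id_assoc, toV_ι]

theorem isoSpec_hom_coeffHom {V : X.Opens} (hV : IsAffineOpen V) :
    hV.isoSpec.hom ≫ Spec.map (coeffHom c V) = V.ι ≫ c := by
  rw [hV.isoSpec_hom, coeffHom, Spec.map_comp,
    Scheme.Opens.toSpecΓ_SpecMap_appLE_assoc, Scheme.Opens.toSpecΓ_top, Category.assoc,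
    toSpecΓ_SpecMap_ΓSpecIso_inv, Category.comp_id, Scheme.Hom.resLE_comp_ι]

theorem evalAt_coeffHom {V : X.Opens} (hV : IsAffineOpen V) (y : Pt c) (hy : y.pt ∈ V) (a : k) :
    evalAt hV y hy (coeffHom c V a) = a := by
  have h : coeffHom c V ≫ CommRingCat.ofHom (evalAt hV y hy) = 𝟙 _ := by
    apply Spec.map_injective
    rw [Spec.map_comp, map_evalAt, Category.assoc, isoSpec_hom_coeffHom, ← Category.assoc, toV_ι,
      y.2, Spec.map_id]
  exact DFunLike.congr_fun (congrArg CommRingCat.Hom.hom h) a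

theorem evalAt_ne_zero_iff {V : X.Opens} (hV : IsAffineOpen V) (y : Pt c) (hy : y.pt ∈ V)
    (b : Γ(X, V)) : evalAt hV y hy b ≠ 0 ↔ y.pt ∈ X.basicOpen b := by
  have h1 : y.pt = hV.fromSpec (Spec.map (CommRingCat.ofHom (evalAt hV y hy))
      (IsLocalRing.closedPoint k)) := by
    have h2 := congrArg (fun g => g.base (IsLocalRing.closedPoint k)) (map_evalAt_fromSpec hV y hy)
    exact h2.symm
  rw [h1]
  change _ ↔ _ ∈ hV.fromSpec ⁻¹ᵁ X.basicOpen b
  rw [hV.fromSpec_preimage_basicOpen]
  change _ ↔ b ∉ Ideal.comap (evalAt hV y hy) (IsLocalRing.maximalIdeal k)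
  rw [Ideal.mem_comap, IsLocalRing.mem_maximalIdeal, mem_nonunits_iff, not_not, isUnit_iff_ne_zero]

end

variable {k : Type u} [Field k] [IsAlgClosed k] {X : Scheme.{u}} [IsIntegral X]
  {c : X ⟶ Spec (CommRingCat.of k)} [IsProper c] [Smooth c] (hdim : topologicalKrullDim X = 1)

omit [IsAlgClosed k] [IsProper c] [Smooth c] in
theorem kToK_eq : kToK c = constFun c := by
  rw [kToK, coeffHom, constFun]
  have : c.appLE ⊤ ⊤ le_top = c.appTop := (Scheme.Hom.app_eq_appLE c).symm
  rw [this]
  rfl

omit [IsAlgClosed k] [IsProper c] [Smooth c] in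
theorem germ_coeffHom (V : X.Opens) [Nonempty V] (a : k) :
    X.germToFunctionField V (coeffHom c V a) = constFun c a := by
  rw [← kToK_eq]
  exact DFunLike.congr_fun (germToFunctionField_coeffHom c V) a

include hdim

theorem mem_reg_iff (y : Pt c) (g : X.functionField) : y.pt ∈ reg g ↔ val c hdim y g ≤ 1 := by
  letI := algK c
  exact (crv_v_le_one c hdim y g).symm

theorem le_reg_iff (V : X.Opens) (g : X.functionField) :
    V ≤ reg g ↔ ∀ y : Pt c, y.pt ∈ V → val c hdim y g ≤ 1 := by
  constructor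
  · intro h y hy
    exact (mem_reg_iff hdim y g).1 (h hy)
  · intro h x hx
    by_cases hgen : x = genericPoint X
    · rw [hgen]
      exact genericPoint_mem_reg g
    · obtain ⟨y, rfl⟩ := exists_pt c x (isClosed_singleton_of_dim_le_one hdim.le hgen)
      exact (mem_reg_iff hdim y g).2 (h y hx)

theorem exists_sec (V : X.Opens) [Nonempty V] {g : X.functionField}
    (hg : ∀ y : Pt c, y.pt ∈ V → val c hdim y g ≤ 1) :
    ∃ s : Γ(X, V), X.germToFunctionField V s = g :=
  exists_germ_eq V ((le_reg_iff hdim V g).2 hg)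

theorem val_germ_le {V : X.Opens} [Nonempty V] (s : Γ(X, V)) (y : Pt c) (hy : y.pt ∈ V) :
    val c hdim y (X.germToFunctionField V s) ≤ 1 :=
  (mem_reg_iff hdim y _).1 (le_reg_germ V s hy)

theorem val_germ_lt {V : X.Opens} [Nonempty V] (s : Γ(X, V)) (y : Pt c) (hy : y.pt ∈ V)
    (hs : y.pt ∉ X.basicOpen s) : val c hdim y (X.germToFunctionField V s) < 1 := by
  refine lt_of_le_of_ne (val_germ_le hdim s y hy) fun h => hs ?_
  rw [Scheme.mem_basicOpen _ _ _ hy]
  have h1 : y.pt ∈ reg (X.germToFunctionField V s)⁻¹ := by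
    rw [mem_reg_iff hdim, map_inv₀, h, inv_one]
  obtain ⟨a, ha⟩ := mem_reg.1 h1
  have hne : X.germToFunctionField V s ≠ 0 := by
    intro h0
    rw [h0, map_zero] at h
    exact zero_ne_one h
  refine IsUnit.of_mul_eq_one a ?_
  apply IsFractionRing.injective (X.presheaf.stalk y.pt) X.functionField
  rw [map_mul, ha, map_one]
  have h2 : algebraMap (X.presheaf.stalk y.pt) X.functionField (X.presheaf.germ V y.pt hy s) =
      X.germToFunctionField V s := Scheme.algebraMap_germ_eq_germToFunctionField X hy s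
  rw [h2, mul_inv_cancel₀ hne]

/-- The value of a section is the value of the rational function. -/
theorem hasValueAt {V : X.Opens} [Nonempty V] (hV : IsAffineOpen V) (s : Γ(X, V)) (y : Pt c)
    (hy : y.pt ∈ V) : HasValueAt y (X.germToFunctionField V s) (evalAt hV y hy s) := by
  rw [hasValueAt_iff hdim, ← germ_coeffHom V, ← map_sub]
  apply val_germ_lt hdim _ y hy
  rw [← evalAt_ne_zero_iff hV y hy, not_not, map_sub, evalAt_coeffHom, sub_self]

end K978.Eval
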