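import Groth.Prelude.Def_SymProd
import Groth.Agent.HilbChow.K774.SymTensor
import Mathlib.RingTheory.PiTensorProduct
import Mathlib.AlgebraicGeometry.AffineScheme

/-!
# Sections of fibre powers of an affine scheme over a field

For `V ≅ Spec B` over a field `k`, the ring of sections of the fibre power is `B ⊗ ⋯ ⊗ B`, and (for `k` infinite)
the invariant sections are the `k`-linear combinations of the products `∏ πᵢ^* b`.
-/

set_option autoImplicit false
universe u v

open CategoryTheory CategoryTheory.Limits AlgebraicGeometry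
open scoped TensorProduct

noncomputable section

namespace K978.FibPowAffine

section ev

variable {R R' : CommRingCat.{u}} {W W' : Scheme.{u}}

/-- The ring map attached to a morphism to an affine scheme. -/
def ev (m : W ⟶ Spec R) : R ⟶ Γ(W, ⊤) := (Scheme.ΓSpecIso R).inv ≫ m.appTop

theorem toSpecΓ_ev (m : W ⟶ Spec R) : W.toSpecΓ ≫ Spec.map (ev m) = m := by
  rw [ev, Spec.map_comp, ← Category.assoc, ← Scheme.toSpecΓ_naturality, Category.assoc]
  have h3 : (Spec R).toSpecΓ ≫ Spec.map (Scheme.ΓSpecIso R).inv = 𝟙 _ := by simp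
  rw [h3, Category.comp_id]

theorem ev_inj {m m' : W ⟶ Spec R} (h : ev m = ev m') : m = m' := by
  rw [← toSpecΓ_ev m, h, toSpecΓ_ev]

theorem ev_comp (t : W' ⟶ W) (m : W ⟶ Spec R) : ev (t ≫ m) = ev m ≫ t.appTop := by
  rw [ev, ev, Scheme.Hom.comp_appTop, Category.assoc]

theorem ev_toSpecΓ (φ : R ⟶ Γ(W, ⊤)) : ev (W.toSpecΓ ≫ Spec.map φ) = φ := by
  rw [ev, Scheme.Hom.comp_appTop, ← Category.assoc, ← Scheme.ΓSpecIso_inv_naturality, Category.assoc]
  have : (Scheme.ΓSpecIso Γ(W, ⊤)).inv ≫ W.toSpecΓ.appTop = 𝟙 _ := by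
    rw [Scheme.toSpecΓ_appTop]
    simp
  rw [this, Category.comp_id]

theorem ev_specMap (φ : R ⟶ R') : ev (Spec.map φ) = φ ≫ (Scheme.ΓSpecIso R').inv := by
  rw [ev, Scheme.ΓSpecIso_inv_naturality]

theorem ev_comp_specMap (m : W ⟶ Spec R') (φ : R ⟶ R') : ev (m ≫ Spec.map φ) = φ ≫ ev m := by
  rw [ev_comp, ev_specMap, Category.assoc]
  rfl

end ev

section tens

variable {k : Type u} [CommRing k] {B : Type u} [CommRing B] [Algebra k B] {n : ℕ}
  {A : Type v} [CommRing A] [Algebra k A]

/-- The algebra map out of a tensor power given by algebra maps out of the factors. -/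
def tlift (φ : Fin n → B →ₐ[k] A) : (⨂[k] _ : Fin n, B) →ₐ[k] A :=
  PiTensorProduct.liftAlgHom
    ((MultilinearMap.mkPiAlgebra k (Fin n) A).compLinearMap (fun i => (φ i).toLinearMap))
    (by simp) (fun x y => by simp [Finset.prod_mul_distrib])

theorem tlift_tprod (φ : Fin n → B →ₐ[k] A) (b : Fin n → B) :
    tlift φ (PiTensorProduct.tprod k b) = ∏ i, φ i (b i) := by
  change PiTensorProduct.lift _ (PiTensorProduct.tprod k b) = _
  rw [PiTensorProduct.lift.tprod]
  simp

theorem tlift_single (φ : Fin n → B →ₐ[k] A) (i : Fin n) (b : B) :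
    tlift φ (PiTensorProduct.singleAlgHom i b) = φ i b := by
  rw [PiTensorProduct.singleAlgHom_apply, tlift_tprod]
  rw [Finset.prod_eq_single i]
  · simp
  · intro j _ hj
    simp [hj]
  · simp

theorem tlift_reindex (φ : Fin n → B →ₐ[k] A) (σ : Equiv.Perm (Fin n)) (x : ⨂[k] _ : Fin n, B) :
    tlift φ (PiTensorProduct.reindex k (fun _ : Fin n => B) σ x) = tlift (fun i => φ (σ i)) x := by
  induction x using PiTensorProduct.induction_on with
  | smul_tprod r b =>
    rw [map_smul, map_smul, map_smul, PiTensorProduct.reindex_tprod, tlift_tprod, tlift_tprod,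
      ← Equiv.prod_comp σ]
    congr 1
    exact Finset.prod_congr rfl fun i _ => by rw [Equiv.symm_apply_apply]
  | add x y hx hy => rw [map_add, map_add, map_add, hx, hy]

end tens

section main

variable {k : Type u} [Field k] {B : Type u} [CommRing B] [Algebra k B]
  {V : Scheme.{u}} {f : V ⟶ Spec (CommRingCat.of k)} (e : V ≅ Spec (CommRingCat.of B))
  (he : e.hom ≫ Spec.map (CommRingCat.ofHom (algebraMap k B)) = f) (n : ℕ)

/-- The pull back of a section along the projections. -/
def pr (i : Fin n) : B →+* Γ(SymProd.fibPow f n, ⊤) :=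
  (ev (WidePullback.π (fun _ : Fin n => f) i ≫ e.hom)).hom

/-- The constants. -/
def cst : k →+* Γ(SymProd.fibPow f n, ⊤) :=
  (ev (R := CommRingCat.of k) (WidePullback.base (fun _ : Fin n => f))).hom

include he

theorem pr_algebraMap (i : Fin n) (a : k) : pr (f := f) e n i (algebraMap k B a) = cst (f := f) n a := by
  have h : ev ((WidePullback.π (fun _ : Fin n => f) i ≫ e.hom) ≫
      Spec.map (CommRingCat.ofHom (algebraMap k B))) = ev (WidePullback.base (fun _ : Fin n => f)) := by
    rw [Category.assoc, he, WidePullback.π_arrow]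
  rw [ev_comp_specMap] at h
  exact DFunLike.congr_fun (congrArg CommRingCat.Hom.hom h) a

/-- the comparison map -/
def psi : letI := (cst (f := f) n).toAlgebra; (⨂[k] _ : Fin n, B) →ₐ[k] Γ(SymProd.fibPow f n, ⊤) :=
  letI := (cst (f := f) n).toAlgebra
  tlift fun i => { pr (f := f) e n i with commutes' := fun a => pr_algebraMap e he n i a }

theorem psi_tprod (b : Fin n → B) :
    psi e he n (PiTensorProduct.tprod k b) = ∏ i, pr (f := f) e n i (b i) := by
  let _ := (cst (f := f) n).toAlgebra
  exact tlift_tprod _ b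

theorem psi_single (i : Fin n) (b : B) :
    psi e he n (PiTensorProduct.singleAlgHom (R := k) (A := fun _ : Fin n => B) i b) = pr (f := f) e n i b := by
  let _ := (cst (f := f) n).toAlgebra
  exact tlift_single _ i b

/-- The inverse morphism. -/
def T : Spec (CommRingCat.of (⨂[k] _ : Fin n, B)) ⟶ SymProd.fibPow f n :=
  WidePullback.lift (Spec.map (CommRingCat.ofHom (algebraMap k (⨂[k] _ : Fin n, B))))
    (fun i => Spec.map (CommRingCat.ofHom
      (PiTensorProduct.singleAlgHom (R := k) (A := fun _ : Fin n => B) i).toRingHom) ≫ e.inv)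
    (fun i => by
      rw [Category.assoc, ← he, e.inv_hom_id_assoc, ← Spec.map_comp]
      congr 1
      ext a
      exact (PiTensorProduct.singleAlgHom (R := k) (A := fun _ : Fin n => B) i).commutes a)

theorem T_π (i : Fin n) : T e he n ≫ WidePullback.π (fun _ : Fin n => f) i =
    Spec.map (CommRingCat.ofHom
      (PiTensorProduct.singleAlgHom (R := k) (A := fun _ : Fin n => B) i).toRingHom) ≫ e.inv := by
  unfold T; exact WidePullback.lift_π _ _ _ _ i

theorem T_base : T e he n ≫ WidePullback.base (fun _ : Fin n => f) =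
    Spec.map (CommRingCat.ofHom (algebraMap k (⨂[k] _ : Fin n, B))) := by
  unfold T; exact WidePullback.lift_base _ _ _ _

/-- The comparison map as a morphism of rings. -/
def psiR : CommRingCat.of (⨂[k] _ : Fin n, B) ⟶ Γ(SymProd.fibPow f n, ⊤) :=
  CommRingCat.ofHom (letI := (cst (f := f) n).toAlgebra; (psi e he n).toRingHom)

theorem psiR_apply (x : ⨂[k] _ : Fin n, B) : (psiR e he n).hom x = psi e he n x := rfl

/-- The comparison morphism. -/
def θ : SymProd.fibPow f n ⟶ Spec (CommRingCat.of (⨂[k] _ : Fin n, B)) :=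
  (SymProd.fibPow f n).toSpecΓ ≫ Spec.map (psiR e he n)

theorem ev_θ : ev (θ e he n) = psiR e he n := ev_toSpecΓ _

theorem θ_T : θ e he n ≫ T e he n = 𝟙 _ := by
  apply WidePullback.hom_ext
  · intro i
    rw [Category.assoc, T_π, Category.id_comp, ← Category.assoc, Iso.comp_inv_eq]
    apply ev_inj
    rw [ev_comp_specMap, ev_θ]
    ext b
    exact psi_single e he n i b
  · rw [Category.assoc, T_base, Category.id_comp]
    apply ev_inj
    rw [ev_comp_specMap, ev_θ]
    ext a
    let _ := (cst (f := f) n).toAlgebra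
    exact (psi e he n).commutes a

theorem T_θ : T e he n ≫ θ e he n = 𝟙 _ := by
  apply ev_inj
  rw [ev_comp, ev_θ]
  let _ : Algebra k Γ(Spec (CommRingCat.of (⨂[k] _ : Fin n, B)), ⊤) :=
    ((Scheme.ΓSpecIso (CommRingCat.of (⨂[k] _ : Fin n, B))).inv.hom.comp
      (algebraMap k (⨂[k] _ : Fin n, B))).toAlgebra
  let _ := (cst (f := f) n).toAlgebra
  let F1 : (⨂[k] _ : Fin n, B) →ₐ[k] Γ(Spec (CommRingCat.of (⨂[k] _ : Fin n, B)), ⊤) :=
    { (psiR e he n ≫ (T e he n).appTop).hom with
      commutes' := fun a => by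
        have h : ev (T e he n ≫ WidePullback.base (fun _ : Fin n => f)) = _ :=
          congrArg ev (T_base e he n)
        rw [ev_comp, ev_specMap] at h
        have h2 := DFunLike.congr_fun (congrArg CommRingCat.Hom.hom h) a
        have h3 : (psi e he n) (algebraMap k (⨂[k] _ : Fin n, B) a) = cst (f := f) n a :=
          (psi e he n).commutes a
        change (T e he n).appTop.hom ((psi e he n) (algebraMap k (⨂[k] _ : Fin n, B) a)) = _
        rw [h3]
        exact h2 }
  let F2 : (⨂[k] _ : Fin n, B) →ₐ[k] Γ(Spec (CommRingCat.of (⨂[k] _ : Fin n, B)), ⊤) :=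
    { (ev (𝟙 (Spec (CommRingCat.of (⨂[k] _ : Fin n, B))))).hom with
      commutes' := fun a => by
        change (ev (𝟙 (Spec (CommRingCat.of (⨂[k] _ : Fin n, B))))).hom (algebraMap k _ a) = _
        rw [ev, Scheme.Hom.id_appTop, Category.comp_id]
        rfl }
  have h : F1 = F2 := by
    apply PiTensorProduct.algHom_ext
    intro i
    ext b
    change (T e he n).appTop.hom (psi e he n (PiTensorProduct.singleAlgHom i b)) =
      (ev (𝟙 (Spec (CommRingCat.of (⨂[k] _ : Fin n, B))))).hom (PiTensorProduct.singleAlgHom i b)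
    rw [psi_single]
    have h0 : T e he n ≫ (WidePullback.π (fun _ : Fin n => f) i ≫ e.hom) =
        Spec.map (CommRingCat.ofHom
          (PiTensorProduct.singleAlgHom (R := k) (A := fun _ : Fin n => B) i).toRingHom) := by
      rw [← Category.assoc, T_π, Category.assoc, e.inv_hom_id, Category.comp_id]
    have h := congrArg ev h0
    rw [ev_comp, ev_specMap] at h
    have h2 := DFunLike.congr_fun (congrArg CommRingCat.Hom.hom h) b
    rw [ev, Scheme.Hom.id_appTop, Category.comp_id]
    exact h2
  ext x
  exact DFunLike.congr_fun h x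

/-- The fibre power is the spectrum of the tensor power. -/
def isoTens : SymProd.fibPow f n ≅ Spec (CommRingCat.of (⨂[k] _ : Fin n, B)) where
  hom := θ e he n
  inv := T e he n
  hom_inv_id := θ_T e he n
  inv_hom_id := T_θ e he n

theorem isAffine_fibPow : IsAffine (SymProd.fibPow f n) := .of_isIso (isoTens e he n).hom

theorem psi_bijective : Function.Bijective (psiR e he n).hom := by
  rw [← ev_θ, ev]
  have h1 : IsIso ((θ e he n).appTop) := by
    have : IsIso (θ e he n) := (isoTens e he n).isIso_hom
    exact (inferInstance : IsIso (Scheme.Γ.map (θ e he n).op))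
  exact ConcreteCategory.bijective_of_isIso ((Scheme.ΓSpecIso _).inv ≫ (θ e he n).appTop)

theorem perm_psi (σ : Equiv.Perm (Fin n)) (x : ⨂[k] _ : Fin n, B) :
    (SymProd.permHom f n σ).appTop.hom ((psiR e he n).hom x) =
      (psiR e he n).hom (PiTensorProduct.reindex k (fun _ : Fin n => B) σ.symm x) := by
  let _ := (cst (f := f) n).toAlgebra
  let φ : Fin n → B →ₐ[k] Γ(SymProd.fibPow f n, ⊤) := fun i =>
    { pr (f := f) e n i with commutes' := fun a => pr_algebraMap e he n i a }
  have hσ : ∀ (i : Fin n) (b : B), (SymProd.permHom f n σ).appTop.hom (φ i b) = φ (σ.symm i) b := by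
    intro i b
    have h0 : SymProd.permHom f n σ ≫ (WidePullback.π (fun _ : Fin n => f) i ≫ e.hom) =
        WidePullback.π (fun _ : Fin n => f) (σ.symm i) ≫ e.hom := by
      rw [← Category.assoc, SymProd.permHom_π]
    have h := congrArg ev h0
    rw [ev_comp] at h
    exact DFunLike.congr_fun (congrArg CommRingCat.Hom.hom h) b
  have hc : ∀ a : k, (SymProd.permHom f n σ).appTop.hom (cst (f := f) n a) = cst (f := f) n a := by
    intro a
    have h0 : SymProd.permHom f n σ ≫ WidePullback.base (fun _ : Fin n => f) =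
        WidePullback.base (fun _ : Fin n => f) := SymProd.permHom_base f n σ
    have h := congrArg ev h0
    rw [ev_comp] at h
    exact DFunLike.congr_fun (congrArg CommRingCat.Hom.hom h) a
  let F1 : (⨂[k] _ : Fin n, B) →ₐ[k] Γ(SymProd.fibPow f n, ⊤) :=
    { (SymProd.permHom f n σ).appTop.hom.comp (tlift φ).toRingHom with
      commutes' := fun a => by
        change (SymProd.permHom f n σ).appTop.hom ((tlift φ) (algebraMap k _ a)) = _
        rw [(tlift φ).commutes]
        exact hc a }
  have h : F1 = tlift (fun i => φ (σ.symm i)) := by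
    apply PiTensorProduct.algHom_ext
    intro i
    ext b
    change (SymProd.permHom f n σ).appTop.hom (tlift φ (PiTensorProduct.singleAlgHom i b)) =
      tlift (fun i => φ (σ.symm i)) (PiTensorProduct.singleAlgHom i b)
    rw [tlift_single, tlift_single, hσ]
  have h2 := tlift_reindex φ σ.symm x
  exact (DFunLike.congr_fun h x).trans h2.symm

/-- The invariant sections of the fibre power are the linear combinations of the products `∏ πᵢ^* b`. -/
theorem inv_induction [Infinite k] {z : Γ(SymProd.fibPow f n, ⊤)}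
    (hz : ∀ σ : Equiv.Perm (Fin n), (SymProd.permHom f n σ).appTop.hom z = z)
    {P : Γ(SymProd.fibPow f n, ⊤) → Prop} (h0 : P 0) (hadd : ∀ x y, P x → P y → P (x + y))
    (hb : ∀ (r : k) (b : B), P (cst (f := f) n r * ∏ i, pr (f := f) e n i b)) : P z := by
  obtain ⟨x, rfl⟩ := (psi_bijective e he n).2 z
  have hx : ∀ σ : Equiv.Perm (Fin n), PiTensorProduct.reindex k (fun _ : Fin n => B) σ x = x := by
    intro σ
    have h1 := hz σ.symm
    rw [perm_psi] at h1
    exact (psi_bijective e he n).1 h1
  have h1 := K774.SymTensor.mem_span x hx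
  let _ := (cst (f := f) n).toAlgebra
  clear hx hz
  induction h1 using Submodule.closure_induction with
  | zero =>
    have : (psiR e he n).hom 0 = 0 := map_zero _
    rwa [this]
  | add x y hx hy h1 h2 =>
    have : (psiR e he n).hom (x + y) = (psiR e he n).hom x + (psiR e he n).hom y := map_add _ _ _
    rw [this]
    exact hadd _ _ h1 h2
  | smul_mem r x hx =>
    obtain ⟨b, rfl⟩ := hx
    have : (psiR e he n).hom (r • PiTensorProduct.tprod k (fun _ : Fin n => b)) =
        cst (f := f) n r * ∏ i, pr (f := f) e n i b := by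
      rw [← psi_tprod e he n (fun _ => b)]
      exact (map_smul (psi e he n) r _).trans (Algebra.smul_def _ _)
    rw [this]
    exact hb r b

end main

end K978.FibPowAffine
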