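import Mathlib.LinearAlgebra.Determinant
import Mathlib.LinearAlgebra.FiniteDimensional.Basic
import Mathlib.LinearAlgebra.Dimension.RankNullity
import Mathlib.RingTheory.Norm.Defs
import Mathlib.Algebra.Polynomial.RingDivision
import Mathlib.LinearAlgebra.FreeModule.Finite.Basic

/-!
# The norm of a finite free algebra over a polynomial ring at a point of the line, as a product over a flag
-/

set_option autoImplicit false
universe u v w

noncomputable section

namespace K978.FlagDet

theorem det_flag {k : Type u} [Field k] {B : Type v} [CommRing B] [Algebra k B] (b : B)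
    (I : ℕ → Submodule k B) (x : ℕ → k) (u : ℕ → B) (hI0 : I 0 = ⊤) (n : ℕ)
    (hle : ∀ j < n, I (j + 1) ≤ I j) (hu : ∀ j < n, u j ∈ I j) (hu' : ∀ j < n, u j ∉ I (j + 1))
    (hone : ∀ j < n, ∀ w ∈ I j, ∃ r : k, w - r • u j ∈ I (j + 1))
    (hb : ∀ j < n, ∀ w ∈ I j, b * w - x j • w ∈ I (j + 1)) :
    ∀ (M : Type w) [AddCommGroup M] [Module k M] (π : B →ₗ[k] M) (_ : Function.Surjective π)
      (_ : LinearMap.ker π = I n) (T : M →ₗ[k] M) (_ : ∀ w, T (π w) = π (b * w)),
      Module.Finite k M ∧ LinearMap.det T = ∏ j ∈ Finset.range n, x j ∧ Module.finrank k M = n := by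
  induction n with
  | zero =>
    intro M _ _ π hπ hker T hT
    rw [hI0] at hker
    have hsub : Subsingleton M := by
      constructor
      intro a b
      obtain ⟨a, rfl⟩ := hπ a
      obtain ⟨b, rfl⟩ := hπ b
      have ha : a ∈ LinearMap.ker π := hker ▸ trivial
      have hb : b ∈ LinearMap.ker π := hker ▸ trivial
      rw [LinearMap.mem_ker.1 ha, LinearMap.mem_ker.1 hb]
    refine ⟨inferInstance, ?_, Module.finrank_zero_of_subsingleton⟩
    rw [LinearMap.det_eq_one_of_subsingleton, Finset.range_zero, Finset.prod_empty]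
  | succ n ih =>
    intro M _ _ π hπ hker T hT
    let W : Submodule k M := (I n).map π
    have hbI : ∀ w ∈ I n, b * w ∈ I n := fun w hw => by
      have h1 := (I n).add_mem (hle n (Nat.lt_succ_self n) (hb n (Nat.lt_succ_self n) w hw))
        ((I n).smul_mem (x n) hw)
      rwa [sub_add_cancel] at h1
    have he : W ≤ W.comap T := by
      rintro _ ⟨w, hw, rfl⟩
      exact ⟨b * w, hbI w hw, (hT w).symm⟩
    have hkerQ : LinearMap.ker (W.mkQ ∘ₗ π) = I n := by
      rw [LinearMap.ker_comp, Submodule.ker_mkQ, Submodule.comap_map_eq, hker]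
      exact sup_eq_left.2 (hle n (Nat.lt_succ_self n))
    obtain ⟨hf, hd, hr⟩ := ih (fun j hj => hle j (by omega)) (fun j hj => hu j (by omega))
      (fun j hj => hu' j (by omega)) (fun j hj => hone j (by omega)) (fun j hj => hb j (by omega))
      (M ⧸ W) (W.mkQ ∘ₗ π) (W.mkQ_surjective.comp hπ) hkerQ (W.mapQ W T he)
      (fun w => by rw [LinearMap.comp_apply, Submodule.mkQ_apply, Submodule.mapQ_apply, hT]; rfl)
    let v : W := ⟨π (u n), u n, hu n (Nat.lt_succ_self n), rfl⟩
    have hv : v ≠ 0 := by
      intro h
      have h1 : π (u n) = 0 := congrArg Subtype.val h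
      exact hu' n (Nat.lt_succ_self n) (hker ▸ LinearMap.mem_ker.2 h1)
    have hspan : ∀ w : W, ∃ c : k, c • v = w := by
      rintro ⟨_, w, hw, rfl⟩
      obtain ⟨r, hr⟩ := hone n (Nat.lt_succ_self n) w hw
      refine ⟨r, Subtype.ext ?_⟩
      change r • π (u n) = π w
      rw [← hker, LinearMap.mem_ker, map_sub, map_smul, sub_eq_zero] at hr
      exact hr.symm
    have hW1 : Module.finrank k W = 1 := (finrank_eq_one_iff_of_nonzero' v hv).2 hspan
    have hWf : Module.Finite k W := Module.finite_of_finrank_eq_succ hW1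
    have hMf : Module.Finite k M := Module.Finite.of_submodule_quotient W
    refine ⟨hMf, ?_, ?_⟩
    · rw [LinearMap.det_eq_det_mul_det W T he, hd, Finset.prod_range_succ, mul_comm]
      congr 1
      have : T.restrict (show ∀ x ∈ W, T x ∈ W from he) = x n • LinearMap.id := by
        ext ⟨_, w, hw, rfl⟩
        change T (π w) = x n • π w
        rw [hT]
        have h1 := hb n (Nat.lt_succ_self n) w hw
        rw [← hker, LinearMap.mem_ker, map_sub, map_smul, sub_eq_zero] at h1
        exact h1
      rw [this, LinearMap.det_smul, hW1, LinearMap.det_id, pow_one, mul_one]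
    · have := Submodule.finrank_quotient_add_finrank W
      omega

/-- The norm at a point of the line, computed on a flag of ideals of the fibre. -/
theorem eval_norm {k : Type u} [Field k] {B : Type v} [CommRing B] [Algebra k B] [Algebra (Polynomial k) B]
    [IsScalarTower k (Polynomial k) B] [Module.Free (Polynomial k) B] [Module.Finite (Polynomial k) B]
    (a : k) (b : B)
    (I : ℕ → Submodule k B) (x : ℕ → k) (u : ℕ → B) (hI0 : I 0 = ⊤) (n : ℕ)
    (hle : ∀ j < n, I (j + 1) ≤ I j) (hu : ∀ j < n, u j ∈ I j) (hu' : ∀ j < n, u j ∉ I (j + 1))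
    (hone : ∀ j < n, ∀ w ∈ I j, ∃ r : k, w - r • u j ∈ I (j + 1))
    (hb : ∀ j < n, ∀ w ∈ I j, b * w - x j • w ∈ I (j + 1))
    (hn : ∀ w : B, w ∈ I n ↔ algebraMap (Polynomial k) B (Polynomial.X - Polynomial.C a) ∣ w) :
    (Algebra.norm (Polynomial k) b).eval a = ∏ j ∈ Finset.range n, x j ∧
      Module.finrank (Polynomial k) B = n := by
  classical
  obtain ⟨⟨ι, β⟩⟩ := Module.Free.exists_basis (R := Polynomial k) (M := B)
  have hfin : Finite ι := Module.Finite.finite_basis β
  have := Fintype.ofFinite ι
  let π : B →ₗ[k] (ι → k) :=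
    { toFun := fun w i => (β.repr w i).eval a
      map_add' := fun w w' => by ext i; simp
      map_smul' := fun r w => by
        ext i
        have : r • w = (Polynomial.C r : Polynomial k) • w := by
          rw [← Polynomial.algebraMap_eq, algebraMap_smul]
        rw [this, map_smul, Finsupp.smul_apply, smul_eq_mul, Polynomial.eval_mul, Polynomial.eval_C]
        rfl }
  have hπa : ∀ w i, π w i = (β.repr w i).eval a := fun _ _ => rfl
  have hπ : Function.Surjective π := by
    intro t
    refine ⟨β.equivFun.symm (fun i => Polynomial.C (t i)), ?_⟩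
    ext i
    rw [hπa, ← β.equivFun_apply, LinearEquiv.apply_symm_apply, Polynomial.eval_C]
  have hker : LinearMap.ker π = I n := by
    ext w
    rw [hn, LinearMap.mem_ker]
    constructor
    · intro h
      have h1 : ∀ i, ∃ q : Polynomial k, β.repr w i = (Polynomial.X - Polynomial.C a) * q := fun i => by
        have := congrFun h i
        exact Polynomial.dvd_iff_isRoot.2 this
      choose q hq using h1
      refine ⟨β.equivFun.symm q, ?_⟩
      rw [← Algebra.smul_def]
      apply β.equivFun.injective
      rw [map_smul, LinearEquiv.apply_symm_apply]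
      ext1 i
      rw [β.equivFun_apply, hq]
      rfl
    · rintro ⟨w', rfl⟩
      rw [← Algebra.smul_def]
      ext i
      rw [hπa, map_smul, Finsupp.smul_apply, smul_eq_mul, Polynomial.eval_mul]
      simp
  let m : Matrix ι ι k := (Algebra.leftMulMatrix β b).map (Polynomial.evalRingHom a)
  have hT : ∀ w, Matrix.toLin' m (π w) = π (b * w) := by
    intro w
    ext i
    rw [hπa, Matrix.toLin'_apply]
    have h1 : β.repr (b * w) i = ((Algebra.leftMulMatrix β b).mulVec (β.equivFun w)) i := by
      have := Algebra.leftMulMatrix_mulVec_repr β b w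
      rw [← this]
      rfl
    rw [h1, Matrix.mulVec, Matrix.mulVec, dotProduct, dotProduct, Polynomial.eval_finsetSum]
    refine Finset.sum_congr rfl fun j _ => ?_
    rw [Polynomial.eval_mul]
    rfl
  obtain ⟨-, h, h'⟩ := det_flag b I x u hI0 n hle hu hu' hone hb (ι → k) π hπ hker (Matrix.toLin' m) hT
  constructor
  · rw [← h, LinearMap.det_toLin', Algebra.norm_eq_matrix_det β]
    change (Polynomial.evalRingHom a) _ = _
    rw [RingHom.map_det]
    rfl
  · rw [← h', Module.finrank_fintype_fun_eq_card, Module.finrank_eq_card_basis β]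

end K978.FlagDet
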