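import Groth.Agent.AlbPic.K978.SymPt
import Mathlib.Algebra.Category.Grp.Basic

/-!
# Vanishing of the sum of the values over the divisor of a rational function
-/

set_option autoImplicit false
set_option linter.unusedSectionVars false
set_option linter.style.haveILetI false
set_option backward.isDefEq.respectTransparency.types false
universe u v

open CategoryTheory CategoryTheory.Limits AlgebraicGeometry WithZero Opposite

noncomputable section

namespace K978.Main

open K717.Crv K717.Basic K717.Approx LocSym Groth.Agent.Picfga.RegLocus
  Groth.Agent.Picfga.CurvePts Groth.Agent.Picfga.CurveP1 Groth.Agent.CurvesA.PtAffine K978.Eval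
  K978.NormFibre K978.FibPowAffine K978.SymPt

theorem sum_eq_finsum {P : Type u} {M : Type v} [AddCommGroup M] {n : ℕ} (x : Fin n → P) (m : P → ℕ)
    (hm : ∀ (y : P) [DecidableEq P], (Finset.univ.filter (fun i => x i = y)).card = m y) (A : P → M) :
    ∑ i, A (x i) = ∑ᶠ y : P, (m y : ℤ) • A y := by
  classical
  rw [Finset.sum_comp A x, finsum_eq_sum_of_support_subset (s := Finset.univ.image x)]
  · refine Finset.sum_congr rfl fun y _ => ?_
    rw [hm y, natCast_zsmul]
  · intro y hy
    rw [Function.mem_support] at hy
    by_contra h
    apply hy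
    have : m y = 0 := by
      rw [← hm y, Finset.card_eq_zero, Finset.filter_eq_empty_iff]
      intro i _ h1
      exact h (by
        rw [Finset.mem_coe]
        exact h1 ▸ Finset.mem_image_of_mem x (Finset.mem_univ i))
    rw [this, Nat.cast_zero, zero_smul]

variable {k : Type u} [Field k] [IsAlgClosed k] {X : Scheme.{u}} [IsIntegral X]
  {c : X ⟶ Spec (CommRingCat.of k)} [IsProper c] [Smooth c] (hdim : topologicalKrullDim X = 1)

include hdim

theorem finite_support_mult (h : X.functionField) (a : k) : (Function.support (fun y => (mult (c := c) hdim h a y : ℤ))).Finite := by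
  refine (mult (c := c) hdim h a).support.finite_toSet.subset ?_
  intro y hy
  rw [Function.mem_support] at hy
  rw [Finset.mem_coe, Finsupp.mem_support_iff]
  exact_mod_cast hy

theorem krullDim_reg {h : X.functionField} (hpole : ∃ y : Pt c, y.ord h < 0) :
    topologicalKrullDim (reg h : Scheme.{u}) = 1 := by
  apply le_antisymm
  · rw [← hdim]
    exact Topology.IsInducing.topologicalKrullDim_le (reg h).ι.isOpenEmbedding.isInducing
  · obtain ⟨y, hy⟩ := exists_hasValueAt hdim hpole 0
    have hyV : y.pt ∈ reg h := by
      rw [mem_reg_iff hdim]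
      exact K717.Value.val_le_one hdim hy
    let a : TopologicalSpace.IrreducibleCloseds (reg h : Scheme.{u}) :=
      ⟨closure {⟨y.pt, hyV⟩}, isIrreducible_singleton.closure, isClosed_closure⟩
    let b : TopologicalSpace.IrreducibleCloseds (reg h : Scheme.{u}) :=
      ⟨Set.univ, IrreducibleSpace.isIrreducible_univ _, isClosed_univ⟩
    have hab : a < b := by
      refine lt_of_le_of_ne (Set.subset_univ _) ?_
      intro hab
      have h1 : (⟨genericPoint X, genericPoint_mem_reg h⟩ : (reg h : Scheme.{u})) ∈
          (a : Set (reg h : Scheme.{u})) := by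
        rw [hab]
        trivial
      have h2 : (⟨y.pt, hyV⟩ : (reg h : Scheme.{u})) ⤳ ⟨genericPoint X, genericPoint_mem_reg h⟩ :=
        specializes_iff_mem_closure.2 h1
      have h3 : y.pt ⤳ genericPoint X := h2.map (reg h).ι.continuous
      exact pt_ne_genericPoint c hdim y (h3.antisymm (genericPoint_specializes _)).eq
    let s : LTSeries (TopologicalSpace.IrreducibleCloseds (reg h : Scheme.{u})) :=
      (RelSeries.singleton _ a).snoc b (by simpa using hab)
    exact Order.LTSeries.length_le_krullDim s

end K978.Main
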