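import Groth.Agent.AlbPic.K978.FlagDet
import Groth.Agent.AlbPic.K978.Eval

/-!
# The norm of a function along the fibres of a rational function on a curve
-/

set_option autoImplicit false
set_option linter.unusedSectionVars false
set_option linter.style.haveILetI false
set_option backward.isDefEq.respectTransparency.types false
universe u v

open CategoryTheory CategoryTheory.Limits AlgebraicGeometry WithZero Opposite

noncomputable section

namespace K978.NormFibre

open K717.Crv K717.Basic K717.Approx LocSym Groth.Agent.Picfga.RegLocus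
  Groth.Agent.Picfga.CurvePts Groth.Agent.Picfga.CurveP1 Groth.Agent.CurvesA.PtAffine K978.Eval

section enum

variable {P : Type u} [DecidableEq P]

/-- A finitely supported multiplicity function is the multiplicity function of a finite sequence. -/
theorem exists_enum (m : P →₀ ℕ) : ∃ (n : ℕ) (x : Fin n → P),
    ∀ y, (Finset.univ.filter (fun i => x i = y)).card = m y := by
  let l := (Finsupp.toMultiset m).toList
  refine ⟨l.length, List.Vector.get (⟨l, rfl⟩ : List.Vector P l.length), fun y => ?_⟩
  rw [Fin.card_filter_univ_eq_vector_get_eq_count, ← Finsupp.count_toMultiset, ← Multiset.coe_count]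
  congr 1
  exact Multiset.coe_toList _

/-- Number of occurrences among the first terms. -/
def cnt (x : ℕ → P) (j : ℕ) (y : P) : ℕ := ((Finset.range j).filter (fun i => x i = y)).card

theorem cnt_zero (x : ℕ → P) (y : P) : cnt x 0 y = 0 := rfl

theorem cnt_succ (x : ℕ → P) (j : ℕ) (y : P) : cnt x (j + 1) y = cnt x j y + if x j = y then 1 else 0 := by
  unfold cnt
  rw [Finset.range_add_one, Finset.filter_insert]
  split_ifs with h
  · rw [Finset.card_insert_of_notMem (by simp)]
  · rfl

theorem cnt_le_succ (x : ℕ → P) (j : ℕ) (y : P) : cnt x j y ≤ cnt x (j + 1) y := by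
  rw [cnt_succ]; omega

theorem cnt_le (x : ℕ → P) (j : ℕ) (y : P) : cnt x j y ≤ j := by
  unfold cnt
  exact (Finset.card_filter_le _ _).trans_eq (Finset.card_range j)

end enum

variable {k : Type u} [Field k] [IsAlgClosed k] {X : Scheme.{u}} [IsIntegral X]
  {c : X ⟶ Spec (CommRingCat.of k)} [IsProper c] [Smooth c] (hdim : topologicalKrullDim X = 1)

include hdim

theorem val_lt_one_iff_le (y : Pt c) (g : X.functionField) :
    val c hdim y g < 1 ↔ val c hdim y g ≤ exp (-1 : ℤ) := by
  rw [val_lt_one_iff, val_le_exp_iff]
  rfl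

/-- Strong approximation with exact orders. -/
theorem exists_exact (x₀ : Pt c) (T : Finset (Pt c)) (hT : x₀ ∉ T) (m : Pt c → ℕ) :
    ∃ f : X.functionField, (∀ y ∈ T, val c hdim y f = exp (-(m y : ℤ))) ∧
      ∀ y ∉ T, y ≠ x₀ → val c hdim y f ≤ 1 := by
  choose t ht0 ht using fun y : Pt c => exists_ord_eq (c := c) hdim y (m y)
  obtain ⟨f, hf, hf'⟩ := exists_strong hdim x₀ T hT (T.sup m + 1) t
  refine ⟨f, fun y hy => ?_, hf'⟩
  have h1 : val c hdim y (t y) = exp (-(m y : ℤ)) := by rw [val_eq_exp hdim y (ht0 y), ht]
  have h2 : val c hdim y (f - t y) < val c hdim y (t y) := by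
    rw [h1]
    refine (hf y hy).trans_lt ?_
    rw [exp_lt_exp]
    have := Finset.le_sup (f := m) hy
    push_cast
    omega
  have e : f = (f - t y) + t y := by ring
  rw [e, Valuation.map_add_eq_of_lt_right _ h2, h1]

theorem transc {h : X.functionField} (hpole : ∃ y : Pt c, y.ord h < 0) :
    Function.Injective (Polynomial.eval₂RingHom (kToK c) h) := by
  obtain ⟨y, hy⟩ := hpole
  refine transcendental c (valuationRing_stalk c hdim.le) (x₀ := y.pt) ?_
  rw [mem_reg_iff hdim, val_le_one_iff]
  rintro (h1 | h1)
  · rw [h1, ord_zero hdim] at hy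
    exact lt_irrefl _ hy
  · omega

theorem isAffineOpen {h : X.functionField} (hpole : ∃ y : Pt c, y.ord h < 0) :
    IsAffineOpen (reg h) :=
  isAffineOpen_reg c hdim.le (valuationRing_stalk c hdim.le) (transc hdim hpole)

theorem ord_sub_const {h : X.functionField} (a : k) (y : Pt c) (hy : y.ord (h - constFun c a) < 0) :
    y.ord h < 0 := by
  have h0 : h - constFun c a ≠ 0 := by
    intro h0
    rw [h0, ord_zero hdim] at hy
    exact lt_irrefl _ hy
  have h1 := ord_sub_const_of_neg hdim y hy (-a)
  rw [map_neg, sub_neg_eq_add, sub_add_cancel] at h1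
  omega

theorem sub_const_ne_zero {h : X.functionField} (hpole : ∃ y : Pt c, y.ord h < 0) (a : k) :
    h - constFun c a ≠ 0 := by
  obtain ⟨y, hy⟩ := hpole
  intro h0
  rw [sub_eq_zero] at h0
  rw [h0, ord_const hdim] at hy
  exact lt_irrefl _ hy

/-- The multiplicity function of the fibre over `a`. -/
def mult (h : X.functionField) (a : k) : Pt c →₀ ℕ :=
  Finsupp.ofSupportFinite (fun y => (max (y.ord (h - constFun c a)) 0).toNat)
    ((finite_ord_ne_zero hdim (h - constFun c a)).subset fun y hy h0 => hy (by simp [h0]))

theorem mult_apply (h : X.functionField) (a : k) (y : Pt c) :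
    mult hdim h a y = (max (y.ord (h - constFun c a)) 0).toNat := rfl

theorem mem_reg_of_mult {h : X.functionField} {a : k} {y : Pt c} (hy : mult hdim h a y ≠ 0) :
    y.pt ∈ reg h := by
  rw [mem_reg_iff hdim]
  have h1 : val c hdim y (h - constFun c a) ≤ 1 := by
    rw [val_le_one_iff]
    right
    rw [mult_apply] at hy
    omega
  have e : h = (h - constFun c a) + constFun c a := by ring
  rw [e]
  exact Valuation.map_add_le _ h1 (val_const_le hdim y a)

theorem norm_fibre {h : X.functionField} (hpole : ∃ y : Pt c, y.ord h < 0) :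
    ∃ (n : ℕ) (N : Γ(X, reg h) → Polynomial k), ∀ a : k, ∃ (x : Fin n → Pt c)
      (hx : ∀ i, (x i).pt ∈ reg h),
      (∀ (y : Pt c) [DecidableEq (Pt c)], (Finset.univ.filter (fun i => x i = y)).card = mult hdim h a y) ∧
      ∀ b, (N b).eval a = ∏ i, evalAt (isAffineOpen hdim hpole) (x i) (hx i) b := by
  classical
  obtain ⟨x₀, hx₀⟩ := hpole
  have hpole : ∃ y : Pt c, y.ord h < 0 := ⟨x₀, hx₀⟩
  have hV := isAffineOpen hdim hpole
  have hz := transc hdim hpole
  let _ : Algebra k Γ(X, reg h) := (coeffHom c (reg h)).hom.toAlgebra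
  let _ : Algebra (Polynomial k) Γ(X, reg h) := (evalHom c (reg h) (sec h)).hom.toAlgebra
  have hst : IsScalarTower k (Polynomial k) Γ(X, reg h) :=
    IsScalarTower.of_algebraMap_eq' (congrArg CommRingCat.Hom.hom (C_evalHom c (reg h) (sec h))).symm
  have hfin : Module.Finite (Polynomial k) Γ(X, reg h) :=
    finite_evalHom c hdim.le (valuationRing_stalk c hdim.le) hz
  have hinj : Function.Injective (evalHom c (reg h) (sec h)).hom := by
    have hg := evalHom_germ c h
    rw [← hg] at hz
    exact Function.Injective.of_comp (f := (X.germToFunctionField (reg h)).hom) hz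
  have htf : Module.IsTorsionFree (Polynomial k) Γ(X, reg h) := by
    have : FaithfulSMul (Polynomial k) Γ(X, reg h) :=
      (faithfulSMul_iff_algebraMap_injective _ _).mpr hinj
    infer_instance
  have hfree : Module.Free (Polynomial k) Γ(X, reg h) := inferInstance
  have key : ∀ a : k, ∃ (n : ℕ) (_ : Module.finrank (Polynomial k) Γ(X, reg h) = n) (x : Fin n → Pt c)
      (hx : ∀ i, (x i).pt ∈ reg h),
      (∀ (y : Pt c) [DecidableEq (Pt c)], (Finset.univ.filter (fun i => x i = y)).card = mult hdim h a y) ∧
      ∀ b, (Algebra.norm (Polynomial k) b).eval a = ∏ i, evalAt hV (x i) (hx i) b := by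
    intro a
    obtain ⟨n, x, hx⟩ := exists_enum (mult (c := c) hdim h a)
    have hxm : ∀ i, mult hdim h a (x i) ≠ 0 := by
      intro i
      rw [← hx (x i)]
      exact (Finset.card_pos.2 ⟨i, by simp⟩).ne'
    have hxV : ∀ i, (x i).pt ∈ reg h := fun i => mem_reg_of_mult hdim (hxm i)
    let x' : ℕ → Pt c := fun j => if hj : j < n then x ⟨j, hj⟩ else x₀
    have hx'x : ∀ (j : ℕ) (hj : j < n), x' j = x ⟨j, hj⟩ := fun j hj => dif_pos hj
    have hx'i : ∀ i : Fin n, x' i = x i := fun i => hx'x i i.2
    have hcount : ∀ y, cnt x' n y = mult hdim h a y := by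
      intro y
      rw [← hx y, cnt, Finset.card_filter, Finset.card_filter, Finset.sum_range]
      exact Finset.sum_congr rfl fun i _ => by rw [hx'i]
    have hx'V : ∀ j < n, (x' j).pt ∈ reg h := fun j hj => by rw [hx'x j hj]; exact hxV _
    have hx₀V : x₀.pt ∉ reg h := by
      rw [mem_reg_iff hdim, val_le_one_iff]
      rintro (h1 | h1)
      · rw [h1, ord_zero hdim] at hx₀
        exact lt_irrefl _ hx₀
      · omega
    let T : Finset (Pt c) := Finset.univ.image x
    have hT : x₀ ∉ T := by
      intro h1
      obtain ⟨i, -, h1⟩ := Finset.mem_image.1 h1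
      exact hx₀V (h1 ▸ hxV i)
    have hTmem : ∀ j < n, x' j ∈ T := fun j hj => by
      rw [hx'x j hj]
      exact Finset.mem_image_of_mem x (Finset.mem_univ _)
    have hTV : ∀ y ∈ T, y.pt ∈ reg h := by
      intro y hy
      obtain ⟨i, -, rfl⟩ := Finset.mem_image.1 hy
      exact hxV i
    choose f hf hf' using fun j : ℕ => exists_exact hdim x₀ T hT (cnt x' j)
    have hfreg : ∀ j, ∀ y : Pt c, y.pt ∈ reg h → val c hdim y (f j) ≤ 1 := by
      intro j y hy
      by_cases hyT : y ∈ T
      · rw [hf j y hyT, ← exp_zero, exp_le_exp]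
        omega
      · exact hf' j y hyT (fun h1 => hx₀V (h1 ▸ hy))
    choose u hu using fun j : ℕ => exists_sec hdim (reg h) (hfreg j)
    let I : ℕ → Submodule k Γ(X, reg h) := fun j =>
      { carrier := {w | ∀ y ∈ T, val c hdim y (X.germToFunctionField (reg h) w) ≤ exp (-(cnt x' j y : ℤ))}
        zero_mem' := fun y _ => by rw [map_zero, map_zero]; exact zero_le
        add_mem' := fun {w w'} hw hw' y hy => by
          rw [map_add]
          exact Valuation.map_add_le _ (hw y hy) (hw' y hy)
        smul_mem' := fun r w hw y hy => by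
          have e : r • w = coeffHom c (reg h) r * w := Algebra.smul_def r w
          rw [e, map_mul, germ_coeffHom, map_mul]
          exact (mul_le_mul' (val_const_le hdim y r) (hw y hy)).trans_eq (one_mul _) }
    have hImem : ∀ j w, w ∈ I j ↔
        ∀ y ∈ T, val c hdim y (X.germToFunctionField (reg h) w) ≤ exp (-(cnt x' j y : ℤ)) :=
      fun _ _ => Iff.rfl
    have hstep : ∀ j < n, ∀ w ∈ I j, val c hdim (x' j) (X.germToFunctionField (reg h) w) <
        exp (-(cnt x' j (x' j) : ℤ)) → w ∈ I (j + 1) := by
      intro j hj w hw hlt y hy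
      rw [cnt_succ]
      by_cases hxy : x' j = y
      · rw [if_pos hxy]
        rw [hxy] at hlt
        by_cases hw0 : X.germToFunctionField (reg h) w = 0
        · rw [hw0, map_zero]; exact zero_le
        · rw [val_eq_exp hdim y hw0, exp_lt_exp] at hlt
          rw [val_eq_exp hdim y hw0, exp_le_exp]
          push_cast
          omega
      · rw [if_neg hxy, add_zero]
        exact hw y hy
    have hsmulsub : ∀ (r : k) (w v : Γ(X, reg h)), X.germToFunctionField (reg h) (w - r • v) =
        X.germToFunctionField (reg h) w - constFun c r * X.germToFunctionField (reg h) v := by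
      intro r w v
      have e : r • v = coeffHom c (reg h) r * v := Algebra.smul_def r v
      rw [e, map_sub, map_mul, germ_coeffHom]
    have hI0 : I 0 = ⊤ := by
      rw [eq_top_iff]
      intro w _
      rw [hImem]
      intro y hy
      rw [cnt_zero, Nat.cast_zero, neg_zero, exp_zero]
      exact val_germ_le hdim w y (hTV y hy)
    have hle : ∀ j < n, I (j + 1) ≤ I j := by
      intro j _ w hw y hy
      refine (hw y hy).trans ?_
      rw [exp_le_exp]
      have := cnt_le_succ x' j y
      omega
    have hu1 : ∀ j < n, u j ∈ I j := by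
      intro j _ y hy
      rw [hu, hf j y hy]
    have hu2 : ∀ j < n, u j ∉ I (j + 1) := by
      intro j hj hcon
      have h1 := hcon (x' j) (hTmem j hj)
      rw [hu, hf j _ (hTmem j hj), exp_le_exp, cnt_succ, if_pos rfl] at h1
      push_cast at h1
      omega
    have hone : ∀ j < n, ∀ w ∈ I j, ∃ r : k, w - r • u j ∈ I (j + 1) := by
      intro j hj w hw
      have hval : val c hdim (x' j) (f j) = exp (-(cnt x' j (x' j) : ℤ)) := hf j _ (hTmem j hj)
      have hfj0 : f j ≠ 0 := by
        intro h0
        rw [h0, map_zero] at hval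
        exact exp_ne_zero hval.symm
      have h1 : val c hdim (x' j) (X.germToFunctionField (reg h) w / f j) ≤ 1 := by
        rw [map_div₀, hval]
        exact div_le_one_of_le₀ (hw _ (hTmem j hj)) zero_le
      obtain ⟨r, hr⟩ := exists_value hdim (x' j) _ h1
      refine ⟨r, hstep j hj _ ((I j).sub_mem hw ((I j).smul_mem r (hu1 j hj))) ?_⟩
      rw [hsmulsub, hu]
      have e : X.germToFunctionField (reg h) w - constFun c r * f j =
          (X.germToFunctionField (reg h) w / f j - constFun c r) * f j := by
        field_simp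
      rw [e, map_mul, hval]
      exact (mul_lt_mul_of_pos_right hr exp_pos).trans_eq (one_mul _)
    have hb : ∀ b : Γ(X, reg h), ∀ j < n, ∀ w ∈ I j,
        b * w - (if hj : (x' j).pt ∈ reg h then evalAt hV (x' j) hj b else 0) • w ∈ I (j + 1) := by
      intro b j hj w hw
      rw [dif_pos (hx'V j hj)]
      have hbI : b * w ∈ I j := by
        intro y hy
        rw [map_mul, map_mul]
        exact (mul_le_mul' (val_germ_le hdim b y (hTV y hy)) (hw y hy)).trans_eq (one_mul _)
      refine hstep j hj _ ((I j).sub_mem hbI ((I j).smul_mem _ hw)) ?_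
      rw [hsmulsub]
      have e : X.germToFunctionField (reg h) (b * w) -
          constFun c (evalAt hV (x' j) (hx'V j hj) b) * X.germToFunctionField (reg h) w =
          (X.germToFunctionField (reg h) b - constFun c (evalAt hV (x' j) (hx'V j hj) b)) *
            X.germToFunctionField (reg h) w := by
        rw [map_mul]; ring
      rw [e, map_mul]
      have h1 := (hasValueAt_iff hdim _ _ _).1 (hasValueAt hdim hV b (x' j) (hx'V j hj))
      calc _ ≤ val c hdim (x' j) (X.germToFunctionField (reg h) b -
            constFun c (evalAt hV (x' j) (hx'V j hj) b)) * exp (-(cnt x' j (x' j) : ℤ)) :=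
          mul_le_mul' le_rfl (hw _ (hTmem j hj))
        _ < _ := (mul_lt_mul_of_pos_right h1 exp_pos).trans_eq (one_mul _)
    have hg0 := sub_const_ne_zero hdim hpole a
    have hgerm : X.germToFunctionField (reg h) (algebraMap (Polynomial k) Γ(X, reg h)
        (Polynomial.X - Polynomial.C a)) = h - constFun c a := by
      have hg := DFunLike.congr_fun (evalHom_germ c h) (Polynomial.X - Polynomial.C a)
      refine hg.trans ?_
      rw [map_sub]
      change Polynomial.eval₂ (kToK c) h Polynomial.X - Polynomial.eval₂ (kToK c) h (Polynomial.C a) = _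
      rw [Polynomial.eval₂_X, Polynomial.eval₂_C, kToK_eq]
    have hn : ∀ w : Γ(X, reg h), w ∈ I n ↔
        algebraMap (Polynomial k) Γ(X, reg h) (Polynomial.X - Polynomial.C a) ∣ w := by
      intro w
      constructor
      · intro hw
        have h1 : ∀ y : Pt c, y.pt ∈ reg h →
            val c hdim y (X.germToFunctionField (reg h) w / (h - constFun c a)) ≤ 1 := by
          intro y hy
          rw [map_div₀]
          refine div_le_one_of_le₀ ?_ zero_le
          have hhy : val c hdim y h ≤ 1 := (mem_reg_iff hdim y h).1 hy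
          have hgy : val c hdim y (h - constFun c a) ≤ 1 :=
            (Valuation.map_sub _ _ _).trans (max_le hhy (val_const_le hdim y a))
          have hord : 0 ≤ y.ord (h - constFun c a) := by
            rcases (val_le_one_iff hdim y _).1 hgy with h2 | h2
            · exact absurd h2 hg0
            · exact h2
          have hmy : (mult hdim h a y : ℤ) = y.ord (h - constFun c a) := by
            rw [mult_apply]; omega
          rw [val_eq_exp hdim y hg0, ← hmy]
          by_cases hyT : y ∈ T
          · have := hw y hyT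
            rwa [hcount] at this
          · have h3 : mult hdim h a y = 0 := by
              rw [← hx y, Finset.card_eq_zero, Finset.filter_eq_empty_iff]
              intro i _ h4
              exact hyT (h4 ▸ Finset.mem_image_of_mem x (Finset.mem_univ i))
            rw [h3, Nat.cast_zero, neg_zero, exp_zero]
            exact val_germ_le hdim w y hy
        obtain ⟨s, hs⟩ := exists_sec hdim (reg h) h1
        refine ⟨s, X.germToFunctionField_injective (reg h) ?_⟩
        rw [map_mul, hgerm, hs, mul_div_cancel₀ _ hg0]
      · rintro ⟨s, rfl⟩ y hy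
        rw [map_mul, hgerm, map_mul, hcount]
        have hmy : (mult hdim h a y : ℤ) ≤ y.ord (h - constFun c a) := by
          have h3 : mult hdim h a y ≠ 0 := by
            obtain ⟨i, -, rfl⟩ := Finset.mem_image.1 hy
            exact hxm i
          rw [mult_apply] at h3 ⊢
          omega
        have h5 : val c hdim y (h - constFun c a) ≤ exp (-(mult hdim h a y : ℤ)) :=
          (val_le_exp_iff hdim y _ _).2 (Or.inr hmy)
        exact (mul_le_mul' h5 (val_germ_le hdim s y (hTV y hy))).trans_eq (mul_one _)
    have main := fun b => FlagDet.eval_norm a b I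
      (fun j => if hj : (x' j).pt ∈ reg h then evalAt hV (x' j) hj b else 0) u hI0 n hle hu1 hu2 hone (hb b) hn
    refine ⟨n, (main 0).2, x, hxV, fun y _ => ?_, fun b => ?_⟩
    · rw [← hx y]
      congr!
    · rw [(main b).1, Finset.prod_range]
      refine Finset.prod_congr rfl fun i _ => ?_
      rw [dif_pos (hx'V i i.2)]
      congr!
      exact hx'i i
  refine ⟨Module.finrank (Polynomial k) Γ(X, reg h), fun b => Algebra.norm (Polynomial k) b, fun a => ?_⟩
  obtain ⟨n, rfl, h1⟩ := key a
  exact h1

end K978.NormFibre
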