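import Groth.Agent.AlbPic.K978.NormFibre
import Groth.Agent.AlbPic.K978.FibPowAffine
import Groth.Agent.S2907
import Groth.Agent.S2909
import Groth.Agent.S2925

/-!
# The morphism from the affine line to the symmetric product of a curve given by the fibres of a rational function
-/

set_option autoImplicit false
set_option linter.unusedSectionVars false
set_option linter.style.haveILetI false
set_option backward.isDefEq.respectTransparency.types false
universe u v

open CategoryTheory CategoryTheory.Limits AlgebraicGeometry WithZero Opposite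

noncomputable section

namespace K978.SymPt

open K717.Crv K717.Basic K717.Approx LocSym Groth.Agent.Picfga.RegLocus
  Groth.Agent.Picfga.CurvePts Groth.Agent.Picfga.CurveP1 Groth.Agent.CurvesA.PtAffine K978.Eval
  K978.NormFibre K978.FibPowAffine

section pt

variable {k : Type u} [Field k] {X : Scheme.{u}} {c : X ⟶ Spec (CommRingCat.of k)}

/-- A tuple of rational points in an open, as a point of the fibre power. -/
def powPt (V : X.Opens) {n : ℕ} (x : Fin n → Pt c) (hx : ∀ i, (x i).pt ∈ V) :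
    Spec (CommRingCat.of k) ⟶ SymProd.fibPow (V.ι ≫ c) n :=
  WidePullback.lift (𝟙 _) (fun i => toV V (x i) (hx i))
    (fun i => by rw [← Category.assoc, toV_ι, (x i).2])

theorem powPt_π (V : X.Opens) {n : ℕ} (x : Fin n → Pt c) (hx : ∀ i, (x i).pt ∈ V) (i : Fin n) :
    powPt V x hx ≫ WidePullback.π (fun _ : Fin n => V.ι ≫ c) i = toV V (x i) (hx i) := by
  unfold powPt; exact WidePullback.lift_π _ _ _ _ i

theorem powPt_base (V : X.Opens) {n : ℕ} (x : Fin n → Pt c) (hx : ∀ i, (x i).pt ∈ V) :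
    powPt V x hx ≫ WidePullback.base (fun _ : Fin n => V.ι ≫ c) = 𝟙 _ := by
  unfold powPt; exact WidePullback.lift_base _ _ _ _

/-- Evaluation of sections of the fibre power at a tuple. -/
def evPow (V : X.Opens) {n : ℕ} (x : Fin n → Pt c) (hx : ∀ i, (x i).pt ∈ V) :
    Γ(SymProd.fibPow (V.ι ≫ c) n, ⊤) →+* k :=
  ((powPt V x hx).appTop ≫ (Scheme.ΓSpecIso (CommRingCat.of k)).hom).hom

theorem evPow_pr {V : X.Opens} (hV : IsAffineOpen V) {n : ℕ} (x : Fin n → Pt c) (hx : ∀ i, (x i).pt ∈ V)
    (i : Fin n) (b : Γ(X, V)) :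
    evPow V x hx (pr (f := V.ι ≫ c) (B := Γ(X, V)) hV.isoSpec n i b) = evalAt hV (x i) (hx i) b := by
  have h0 : powPt V x hx ≫ (WidePullback.π (fun _ : Fin n => V.ι ≫ c) i ≫ hV.isoSpec.hom) =
      Spec.map (CommRingCat.ofHom (evalAt hV (x i) (hx i))) := by
    rw [← Category.assoc, powPt_π, map_evalAt]
  have h := congrArg (fun m => m ≫ (Scheme.ΓSpecIso (CommRingCat.of k)).hom) (congrArg ev h0)
  rw [ev_comp, ev_specMap, Category.assoc, Category.assoc, Iso.inv_hom_id] at h
  exact DFunLike.congr_fun (congrArg CommRingCat.Hom.hom h) b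

theorem evPow_cst (V : X.Opens) {n : ℕ} (x : Fin n → Pt c) (hx : ∀ i, (x i).pt ∈ V) (a : k) :
    evPow V x hx (cst (f := V.ι ≫ c) n a) = a := by
  have h := congrArg (fun m => m ≫ (Scheme.ΓSpecIso (CommRingCat.of k)).hom)
    (congrArg ev (powPt_base V x hx))
  have h1 : ev (𝟙 (Spec (CommRingCat.of k))) = (Scheme.ΓSpecIso (CommRingCat.of k)).inv := by
    rw [ev, Scheme.Hom.id_appTop, Category.comp_id]
  rw [ev_comp, h1, Category.assoc, Iso.inv_hom_id] at h
  exact DFunLike.congr_fun (congrArg CommRingCat.Hom.hom h) a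

end pt

variable {k : Type u} [Field k] [IsAlgClosed k] {X : Scheme.{u}} [IsIntegral X]
  {c : X ⟶ Spec (CommRingCat.of k)} [IsProper c] [Smooth c] (hdim : topologicalKrullDim X = 1)

theorem exists_symPt {h : X.functionField} (hpole : ∃ y : Pt c, y.ord h < 0) :
    ∃ (n : ℕ) (Y : Scheme.{u}) (q : SymProd.fibPow ((reg h).ι ≫ c) n ⟶ Y) (g : Y ⟶ Spec (CommRingCat.of k))
      (_ : SymProd.IsSymProd ((reg h).ι ≫ c) n q g)
      (s : Spec (CommRingCat.of (Polynomial k)) ⟶ Y)
      (_ : s ≫ g = Spec.map (CommRingCat.ofHom (algebraMap k (Polynomial k)))),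
      ∀ a : k, ∃ (x : Fin n → Pt c) (hx : ∀ i, (x i).pt ∈ reg h),
        (∀ (y : Pt c) [DecidableEq (Pt c)], (Finset.univ.filter (fun i => x i = y)).card = mult hdim h a y) ∧
        Spec.map (CommRingCat.ofHom (Polynomial.evalRingHom a)) ≫ s = powPt (reg h) x hx ≫ q := by
  obtain ⟨n, N, hN⟩ := norm_fibre hdim hpole
  have hV := isAffineOpen hdim hpole
  choose x hx hmult hN using hN
  have hk : Infinite k := IsAlgClosed.instInfinite
  let _ : Algebra k Γ(X, reg h) := (coeffHom c (reg h)).hom.toAlgebra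
  have he : hV.isoSpec.hom ≫ Spec.map (CommRingCat.ofHom (algebraMap k Γ(X, reg h))) = (reg h).ι ≫ c :=
    isoSpec_hom_coeffHom hV
  have haff : IsAffine (SymProd.fibPow ((reg h).ι ≫ c) n) := isAffine_fibPow hV.isoSpec he n
  obtain ⟨Y, q, hq⟩ := Groth.Agent.S2907.result (SymProd.permActU ((reg h).ι ≫ c) n)
    (fun x => ⟨⊤, isAffineOpen_top _, fun _ => trivial⟩)
  obtain ⟨g, hg, -⟩ := Groth.Agent.S2925.result (SymProd.permActU ((reg h).ι ≫ c) n) q hq _
    (WidePullback.base (fun _ : Fin n => (reg h).ι ≫ c)) (fun σ => by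
      rw [SymProd.permActU_hom, SymProd.permHom_base])
  have haffb : IsAffineHom (WidePullback.base (fun _ : Fin n => (reg h).ι ≫ c)) := inferInstance
  have haffg : IsAffineHom g := by
    refine (Groth.Agent.S2909.result (SymProd.permActU ((reg h).ι ≫ c) n) q hq
      (WidePullback.base (fun _ : Fin n => (reg h).ι ≫ c)) g hg (fun σ => ?_)).1.1 haffb
    rw [SymProd.permActU_hom, SymProd.permHom_base]
  have haffY : IsAffine Y := isAffine_of_isAffineHom g
  -- the pulled back functions are polynomial along the fibres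
  have hinv : ∀ z : Γ(SymProd.fibPow ((reg h).ι ≫ c) n, ⊤),
      (∀ σ : Equiv.Perm (Fin n), (SymProd.permHom ((reg h).ι ≫ c) n σ).appTop.hom z = z) →
      ∃ P : Polynomial k, ∀ a, P.eval a = evPow (reg h) (x a) (hx a) z := by
    intro z hz
    refine inv_induction hV.isoSpec he n hz
      (P := fun z => ∃ P : Polynomial k, ∀ a, P.eval a = evPow (reg h) (x a) (hx a) z) ?_ ?_ ?_
    · exact ⟨0, fun a => by rw [map_zero, Polynomial.eval_zero]⟩
    · rintro z z' ⟨P, hP⟩ ⟨P', hP'⟩
      exact ⟨P + P', fun a => by rw [map_add, Polynomial.eval_add, hP, hP']⟩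
    · intro r b
      refine ⟨Polynomial.C r * N b, fun a => ?_⟩
      rw [Polynomial.eval_mul, Polynomial.eval_C, map_mul, map_prod, evPow_cst, hN]
      congr 1
      exact Finset.prod_congr rfl fun i _ => (evPow_pr hV (x a) (hx a) i b).symm
  have hinvq : ∀ w : Γ(Y, ⊤), ∃ P : Polynomial k, ∀ a, P.eval a = evPow (reg h) (x a) (hx a) (q.appTop.hom w) := by
    intro w
    refine hinv _ fun σ => ?_
    have h1 := hq.inv ⟨σ⟩
    rw [SymProd.permActU_hom] at h1
    have h2 : q.appTop ≫ (SymProd.permHom ((reg h).ι ≫ c) n σ).appTop = q.appTop := by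
      rw [← Scheme.Hom.comp_appTop, h1]
    exact DFunLike.congr_fun (congrArg CommRingCat.Hom.hom h2) w
  choose P hP using hinvq
  let sR : Γ(Y, ⊤) →+* Polynomial k :=
    { toFun := P
      map_one' := Polynomial.funext fun a => by rw [hP, map_one, map_one, Polynomial.eval_one]
      map_mul' := fun w w' => Polynomial.funext fun a => by
        rw [hP, map_mul, map_mul, Polynomial.eval_mul, hP, hP]
      map_zero' := Polynomial.funext fun a => by rw [hP, map_zero, map_zero, Polynomial.eval_zero]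
      map_add' := fun w w' => Polynomial.funext fun a => by
        rw [hP, map_add, map_add, Polynomial.eval_add, hP, hP] }
  have hsR : ∀ w a, (sR w).eval a = evPow (reg h) (x a) (hx a) (q.appTop.hom w) := hP
  have hgev : Y.isoSpec.inv ≫ g = Spec.map (ev g) := by
    rw [Iso.inv_comp_eq]
    exact (toSpecΓ_ev g).symm
  refine ⟨n, Y, q, g, ⟨hq, hg⟩, Spec.map (CommRingCat.ofHom sR) ≫ Y.isoSpec.inv, ?_, fun a =>
    ⟨x a, hx a, hmult a, ?_⟩⟩
  · rw [Category.assoc, hgev, ← Spec.map_comp]
    congr 1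
    ext1
    apply RingHom.ext
    intro r
    apply Polynomial.funext
    intro a
    refine (hsR _ a).trans ?_
    have h1 := congrArg ev hg
    rw [ev_comp] at h1
    have h2 : q.appTop.hom ((ev g).hom r) = cst (f := (reg h).ι ≫ c) n r :=
      DFunLike.congr_fun (congrArg CommRingCat.Hom.hom h1) r
    refine (congrArg (evPow (reg h) (x a) (hx a)) h2).trans ?_
    rw [evPow_cst]
    exact (Polynomial.eval_C).symm
  · rw [← Category.assoc, Iso.comp_inv_eq, ← Spec.map_comp]
    apply ev_inj
    rw [ev_specMap]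
    have h1 : ev Y.isoSpec.hom = 𝟙 _ := by
      have := ev_toSpecΓ (𝟙 (Γ(Y, ⊤)))
      rwa [Spec.map_id, Category.comp_id] at this
    rw [ev_comp, h1]
    have h4 : 𝟙 Γ(Y, ⊤) ≫ (powPt (reg h) (x a) (hx a) ≫ q).appTop =
        q.appTop ≫ (powPt (reg h) (x a) (hx a)).appTop :=
      (Category.id_comp _).trans (Scheme.Hom.comp_appTop _ _)
    refine Eq.trans ?_ h4.symm
    ext w
    have h2 := hsR w a
    change (Scheme.ΓSpecIso (CommRingCat.of k)).inv.hom ((sR w).eval a) =
      (powPt (reg h) (x a) (hx a)).appTop.hom (q.appTop.hom w)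
    rw [h2]
    have h3 : (powPt (reg h) (x a) (hx a)).appTop ≫ (Scheme.ΓSpecIso (CommRingCat.of k)).hom ≫
      (Scheme.ΓSpecIso (CommRingCat.of k)).inv = (powPt (reg h) (x a) (hx a)).appTop := by
      rw [Iso.hom_inv_id, Category.comp_id]
    exact DFunLike.congr_fun (congrArg CommRingCat.Hom.hom h3) (q.appTop.hom w)

end K978.SymPt
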